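import Mathlib.RingTheory.Ideal.Quotient.Operations
import Mathlib.RingTheory.Smooth.Basic
import Mathlib.Data.Nat.Cast.Basic

/-!
Averaging of algebra maps congruent modulo a square-zero ideal.
-/

set_option autoImplicit false
universe u v w

namespace Groth.Agent.FixPtLib

open scoped BigOperators

variable {R : Type u} [CommRing R] {B : Type v} [CommRing B] [Algebra R B]
  {D : Type w} [CommRing D] [Algebra R D]

/-- The average of algebra maps which agree modulo a square-zero ideal is an algebra map. -/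
theorem exists_average {ι : Type*} [Fintype ι] (ψ : B →ₐ[R] D) (χ : ι → (B →ₐ[R] D))
    (J : Ideal D) (hJ : J ^ 2 = ⊥) (hχ : ∀ i b, χ i b - ψ b ∈ J)
    (u : Dˣ) (hu : (u : D) = Fintype.card ι) :
    ∃ φ : B →ₐ[R] D, (∀ b, (u : D) * φ b = ∑ i, χ i b) ∧ ∀ b, φ b - ψ b ∈ J := by
  have hmul : ∀ x ∈ J, ∀ y ∈ J, x * y = (0 : D) := fun x hx y hy => by
    have : x * y ∈ J ^ 2 := by rw [pow_two]; exact Ideal.mul_mem_mul hx hy
    rwa [hJ] at this
  let e : B → D := fun b => ∑ i, (χ i b - ψ b)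
  have he : ∀ b, e b ∈ J := fun b => sum_mem fun i _ => hχ i b
  have hsum : ∀ b, ∑ i, χ i b = (u : D) * ψ b + e b := by
    intro b
    show _ = _ + ∑ i, (χ i b - ψ b)
    rw [Finset.sum_sub_distrib, Finset.sum_const, Finset.card_univ, nsmul_eq_mul, hu]
    abel
  have emul : ∀ a b, e (a * b) = ψ a * e b + ψ b * e a := by
    intro a b
    show ∑ i, (χ i (a * b) - ψ (a * b)) =
      ψ a * ∑ i, (χ i b - ψ b) + ψ b * ∑ i, (χ i a - ψ a)
    rw [Finset.mul_sum, Finset.mul_sum, ← Finset.sum_add_distrib]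
    refine Finset.sum_congr rfl fun i _ => ?_
    have h0 := hmul _ (hχ i a) _ (hχ i b)
    rw [map_mul, map_mul]
    linear_combination h0
  let φf : B → D := fun b => ψ b + (↑u⁻¹ : D) * e b
  have hinv : (u : D) * (↑u⁻¹ : D) = 1 := Units.mul_inv u
  let φ : B →ₐ[R] D :=
    { toFun := φf
      map_one' := by simp [φf, e]
      map_mul' := fun a b => by
        show ψ (a * b) + (↑u⁻¹ : D) * e (a * b) =
          (ψ a + (↑u⁻¹ : D) * e a) * (ψ b + (↑u⁻¹ : D) * e b)
        rw [map_mul, emul]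
        linear_combination (-((↑u⁻¹ : D) * (↑u⁻¹ : D))) * hmul _ (he a) _ (he b)
      map_zero' := by simp [φf, e]
      map_add' := fun a b => by
        simp only [φf, e, map_add, Finset.sum_sub_distrib, Finset.sum_add_distrib]
        ring
      commutes' := fun r => by simp [φf, e] }
  refine ⟨φ, fun b => ?_, fun b => ?_⟩
  · rw [hsum]
    show (u : D) * (ψ b + (↑u⁻¹ : D) * e b) = _
    linear_combination (e b) * hinv
  · show ψ b + (↑u⁻¹ : D) * e b - ψ b ∈ J
    rw [add_sub_cancel_left]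
    exact J.mul_mem_left _ (he b)

/-- Lifting from invariant lifts: if every invariant algebra map out of `B` factors through the
surjection `π : B → C`, and the group order is invertible, then `C` is formally smooth. -/
theorem formallySmooth_of_fixed {B : Type u} [CommRing B] [Algebra R B] [Algebra.FormallySmooth R B]
    {C : Type u} [CommRing C] [Algebra R C] (π : B →ₐ[R] C) (hπ : Function.Surjective π)
    {M : Type*} [Monoid M] [Fintype M] (hM : ∀ m : M, IsUnit m)
    (hn : IsUnit (Fintype.card M : R)) (σ : M → (B →ₐ[R] B))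
    (hσ : ∀ m n : M, σ (m * n) = (σ n).comp (σ m)) (hπσ : ∀ m, π.comp (σ m) = π)
    (hfac : ∀ (D : Type u) [CommRing D] [Algebra R D] (χ : B →ₐ[R] D),
      (∀ m, χ.comp (σ m) = χ) → ∃ φ : C →ₐ[R] D, φ.comp π = χ) :
    Algebra.FormallySmooth R C := by
  refine Algebra.FormallySmooth.of_comp_surjective fun D _ _ J hJ φ₀ => ?_
  obtain ⟨ψ, hψ⟩ := Algebra.FormallySmooth.comp_surjective R B J hJ (φ₀.comp π)
  have hcong : ∀ m b, ψ.comp (σ m) b - ψ b ∈ J := by
    intro m b
    rw [← Ideal.Quotient.mk_eq_mk_iff_sub_mem]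
    have h1 := AlgHom.congr_fun hψ (σ m b)
    have h2 := AlgHom.congr_fun hψ b
    have h3 := AlgHom.congr_fun (hπσ m) b
    simp only [AlgHom.comp_apply, Ideal.Quotient.mkₐ_eq_mk] at h1 h2 h3 ⊢
    rw [h1, h2, h3]
  have hnD : IsUnit (Fintype.card M : D) := by
    simpa using hn.map (algebraMap R D)
  obtain ⟨χ, hχu, hχJ⟩ := exists_average ψ (fun m => ψ.comp (σ m)) J hJ hcong hnD.unit hnD.unit_spec
  have hχσ : ∀ m, χ.comp (σ m) = χ := by
    intro m
    refine AlgHom.ext fun b => hnD.unit.isUnit.mul_left_cancel ?_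
    rw [AlgHom.comp_apply, hχu, hχu]
    refine Fintype.sum_bijective (fun x => m * x) ((hM m).unit.mulLeft.bijective) _ _ fun x => ?_
    simp [hσ]
  obtain ⟨φ, hφ⟩ := hfac D χ hχσ
  refine ⟨φ, AlgHom.ext fun c => ?_⟩
  obtain ⟨b, rfl⟩ := hπ c
  have h1 := AlgHom.congr_fun hφ b
  have h2 := AlgHom.congr_fun hψ b
  simp only [AlgHom.comp_apply, Ideal.Quotient.mkₐ_eq_mk] at h1 h2 ⊢
  rw [h1, ← h2, Ideal.Quotient.mk_eq_mk_iff_sub_mem]
  exact hχJ b

end Groth.Agent.FixPtLib
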