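import Mathlib.AlgebraicGeometry.Morphisms.Separated
import Mathlib.AlgebraicGeometry.Morphisms.FinitePresentation
import Groth.Agent.S4599

/-!
The fixed locus of finitely many endomorphisms of a separated scheme of finite type.
-/

set_option autoImplicit false
universe u
open CategoryTheory Limits AlgebraicGeometry

namespace Groth.Agent.FixPtLib

variable {S : Scheme.{u}} {X : Over S}

set_option backward.isDefEq.respectTransparency false in
theorem lfp_equalizer_ι {Y : Over S} [LocallyOfFiniteType Y.hom] (f g : X ⟶ Y) :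
    LocallyOfFinitePresentation (equalizer.ι f g).left := by
  refine MorphismProperty.of_isPullback
    ((Limits.isPullback_equalizer_prod f g).map (Over.forget _)).flip ?_
  rw [← MorphismProperty.cancel_right_of_respectsIso @LocallyOfFinitePresentation _
    (Over.prodLeftIsoPullback Y Y).hom]
  have h := Groth.Agent.S4599.result Y.hom
  convert! h
  ext1 <;> simp [← Over.comp_left]

theorem exists_fixed [IsSeparated X.hom] [LocallyOfFiniteType X.hom] (s : Finset (X ⟶ X)) :
    ∃ (E : Over S) (e : E ⟶ X), IsClosedImmersion e.left ∧ LocallyOfFinitePresentation e.left ∧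
      Mono e ∧ ∀ (T : Over S) (t : T ⟶ X), (∀ f ∈ s, t ≫ f = t) ↔ ∃ t' : T ⟶ E, t' ≫ e = t := by
  classical
  induction s using Finset.induction with
  | empty =>
    exact ⟨X, 𝟙 X, by simp only [Over.id_left]; infer_instance,
      by simp only [Over.id_left]; infer_instance, inferInstance, fun T t => by simp⟩
  | insert f s _ ih =>
    obtain ⟨E, e, he1, he2, he3, hE⟩ := ih
    haveI := he1; haveI := he2; haveI := he3
    haveI := lfp_equalizer_ι (e ≫ f) e
    refine ⟨equalizer (e ≫ f) e, equalizer.ι (e ≫ f) e ≫ e,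
      by simp only [Over.comp_left]; infer_instance,
      by simp only [Over.comp_left]; infer_instance, inferInstance, fun T t => ⟨fun h => ?_, ?_⟩⟩
    · obtain ⟨t₁, rfl⟩ := (hE T t).1 fun g hg => h g (Finset.mem_insert_of_mem hg)
      have h' := h f (Finset.mem_insert_self f s)
      refine ⟨equalizer.lift t₁ (by simpa using h'), ?_⟩
      rw [← Category.assoc, equalizer.lift_ι]
    · rintro ⟨t', rfl⟩ g hg
      rcases Finset.mem_insert.1 hg with rfl | hg
      · simp only [Category.assoc]
        rw [equalizer.condition]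
      · exact (hE T _).2 ⟨t' ≫ equalizer.ι (e ≫ f) e, by simp⟩ g hg

/-- The universal fixed object of finitely many endomorphisms is a closed subscheme of finite
presentation. -/
theorem closed_of_universal [IsSeparated X.hom] [LocallyOfFiniteType X.hom]
    {M : Set (X ⟶ X)} (hM : M.Finite) (Z : Over S) (ι : Z ⟶ X) (hι : ∀ f ∈ M, ι ≫ f = ι)
    (hZ : ∀ (T : Over S) (t : T ⟶ X), (∀ f ∈ M, t ≫ f = t) → ∃ t' : T ⟶ Z, t' ≫ ι = t)
    (hu : Mono ι) :
    IsClosedImmersion ι.left ∧ LocallyOfFinitePresentation ι.left := by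
  obtain ⟨E, e, he1, he2, he3, hE⟩ := exists_fixed hM.toFinset
  haveI := he1; haveI := he2; haveI := he3; haveI := hu
  obtain ⟨a, ha⟩ := (hE Z ι).1 fun f hf => hι f (hM.mem_toFinset.1 hf)
  obtain ⟨b, hb⟩ := hZ E e fun f hf => (hE E e).2 ⟨𝟙 E, Category.id_comp e⟩ f (hM.mem_toFinset.2 hf)
  have hab : a ≫ b = 𝟙 Z := by rw [← cancel_mono ι]; simp [ha, hb]
  have hba : b ≫ a = 𝟙 E := by rw [← cancel_mono e]; simp [ha, hb]
  haveI : IsIso a := ⟨b, hab, hba⟩
  haveI : IsIso a.left := (Over.forget S).map_isIso a
  rw [← ha, Over.comp_left]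
  exact ⟨inferInstance, inferInstance⟩

end Groth.Agent.FixPtLib
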