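import Mathlib.AlgebraicGeometry.Morphisms.Smooth
import Mathlib.AlgebraicGeometry.Morphisms.Affine
import Groth.Agent.FixPtLib.Avg
import Groth.Agent.FixPtLib.Closed
import Groth.Agent.SGA1Q.Exists

/-!
Smoothness of fixed points of finite groups of invertible order.
-/

set_option autoImplicit false
universe u
open CategoryTheory Limits AlgebraicGeometry

namespace Groth.Agent.FixPtLib

variable {S : Scheme.{u}} {X : Over S} {M : Type u} [Group M] [Finite M] (ρ : M →* Aut X)

theorem smooth_fixed [Smooth X.hom]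
    (hn : IsUnit (Nat.card M : Γ(S, ⊤)))
    (Z : Over S) (ι : Z ⟶ X) [IsClosedImmersion ι.left] [LocallyOfFinitePresentation ι.left]
    (hι : ∀ m : M, ι ≫ (ρ m).hom = ι)
    (hZ : ∀ (T : Over S) (t : T ⟶ X), (∀ m : M, t ≫ (ρ m).hom = t) → ∃ t' : T ⟶ Z, t' ≫ ι = t) :
    Smooth Z.hom := by
  classical
  cases nonempty_fintype M
  have hZhom : Z.hom = ι.left ≫ X.hom := (Over.w ι).symm
  haveI : LocallyOfFinitePresentation Z.hom := by rw [hZhom]; infer_instance
  rw [HasRingHomProperty.iff_exists_appLE (P := @Smooth)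
    (RingHom.Smooth.stableUnderComposition.stableUnderCompositionWithLocalizationAway RingHom.Smooth.holdsForLocalizationAway).1]
  intro z
  let x : X.left := ι.left z
  obtain ⟨_, ⟨V, hV, rfl⟩, hxV, -⟩ :=
    S.isBasis_affineOpens.exists_subset_of_mem_open (Set.mem_univ (X.hom x)) isOpen_univ
  obtain ⟨_, ⟨U, hU, rfl⟩, hxU, hUV⟩ :=
    X.left.isBasis_affineOpens.exists_subset_of_mem_open
      (show x ∈ (X.hom ⁻¹ᵁ V : X.left.Opens) from hxV) (X.hom ⁻¹ᵁ V).isOpen
  let ρ' : M →* Aut X.left := ((Over.forget S).mapAut X).comp ρ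
  have hρ' : ∀ m, (ρ' m).hom = (ρ m).hom.left := fun m => rfl
  have hfix : ∀ m, (ρ' m).hom x = x := by
    intro m
    exact congr(($(congrArg (fun t : Z ⟶ X => t.left) (hι m))).base z)
  obtain ⟨W, hW, hWst, hxW, hWV⟩ := SGA1Q.exists_stable_affine ρ' hU x
    (fun m => by rw [hfix m]; exact hxU) (X.hom ⁻¹ᵁ V)
    (fun m => by
      rw [hρ' m, ← Scheme.Hom.comp_preimage, Over.w (ρ m).hom]) hxV
  let N : Z.left.Opens := ι.left ⁻¹ᵁ W
  have hN : IsAffineOpen N := hW.preimage ι.left
  have eZ : N ≤ Z.hom ⁻¹ᵁ V := by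
    rw [hZhom, Scheme.Hom.comp_preimage]
    exact fun y hy => hWV hy
  refine ⟨⟨V, hV⟩, ⟨N, hN⟩, hxW, eZ, ?_⟩
  show (Z.hom.appLE V N eZ).hom.Smooth
  algebraize [(X.hom.appLE V W hWV).hom, (Z.hom.appLE V N eZ).hom]
  haveI : Algebra.Smooth Γ(S, V) Γ(X.left, W) := X.hom.smooth_appLE hV hW hWV
  let πr := ι.left.appLE W N le_rfl
  have hπR : X.hom.appLE V W hWV ≫ πr = Z.hom.appLE V N eZ := by
    show _ ≫ ι.left.appLE W N le_rfl = _
    rw [Scheme.Hom.appLE_comp_appLE]
    congr 1
    exact Over.w ι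
  let π : Γ(X.left, W) →ₐ[Γ(S, V)] Γ(Z.left, N) :=
    { πr.hom with commutes' := fun r => congr(($hπR).hom r) }
  have hπ : Function.Surjective π := by
    have h := ι.left.app_surjective W hW
    show Function.Surjective (ι.left.appLE W N le_rfl).hom
    rw [← Scheme.Hom.app_eq_appLE]
    exact h
  have eσ : ∀ m, W ≤ (ρ m).hom.left ⁻¹ᵁ W := fun m => hWst m
  have hσR : ∀ m, X.hom.appLE V W hWV ≫ (ρ m).hom.left.appLE W W (eσ m) = X.hom.appLE V W hWV := by
    intro m
    rw [Scheme.Hom.appLE_comp_appLE]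
    congr 1
    exact Over.w (ρ m).hom
  let σ : M → (Γ(X.left, W) →ₐ[Γ(S, V)] Γ(X.left, W)) := fun m =>
    { ((ρ m).hom.left.appLE W W (eσ m)).hom with commutes' := fun r => congr(($(hσR m)).hom r) }
  haveI : Algebra.FormallySmooth Γ(S, V) Γ(Z.left, N) := by
    refine formallySmooth_of_fixed π hπ (M := M) (fun m => Group.isUnit m) ?_ σ ?_ ?_ ?_
    · rw [← Nat.card_eq_fintype_card]
      simpa using hn.map (S.presheaf.map (homOfLE le_top).op).hom
    · intro m n
      refine AlgHom.ext fun b => ?_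
      show ((ρ (m * n)).hom.left.appLE W W (eσ (m * n))).hom b =
        (((ρ m).hom.left.appLE W W (eσ m)) ≫ ((ρ n).hom.left.appLE W W (eσ n))).hom b
      rw [Scheme.Hom.appLE_comp_appLE]
      congr 2
      congr 1
      rw [map_mul, ← Over.comp_left]
      rfl
    · intro m
      refine AlgHom.ext fun b => ?_
      show (((ρ m).hom.left.appLE W W (eσ m)) ≫ πr).hom b = (ι.left.appLE W N le_rfl).hom b
      rw [Scheme.Hom.appLE_comp_appLE]
      congr 2
      congr 1
      rw [← Over.comp_left, hι]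
    · intro D _ _ χ hχ
      let a : CommRingCat.of Γ(X.left, W) ⟶ CommRingCat.of D := CommRingCat.ofHom χ.toRingHom
      let str : Spec (CommRingCat.of D) ⟶ S :=
        Spec.map (CommRingCat.ofHom (algebraMap Γ(S, V) D)) ≫ hV.fromSpec
      have hstr : (Spec.map a ≫ hW.fromSpec) ≫ X.hom = str := by
        rw [Category.assoc, ← IsAffineOpen.SpecMap_appLE_fromSpec X.hom hV hW hWV,
          ← Spec.map_comp_assoc]
        congr 2
        ext r
        exact χ.commutes r
      let t : Over.mk str ⟶ X := Over.homMk (Spec.map a ≫ hW.fromSpec) hstr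
      have ht : ∀ m, t ≫ (ρ m).hom = t := by
        intro m
        ext : 1
        show (Spec.map a ≫ hW.fromSpec) ≫ (ρ m).hom.left = Spec.map a ≫ hW.fromSpec
        rw [Category.assoc, ← IsAffineOpen.SpecMap_appLE_fromSpec (ρ m).hom.left hW hW (eσ m),
          ← Spec.map_comp_assoc]
        congr 2
        ext b
        exact AlgHom.congr_fun (hχ m) b
      obtain ⟨t', ht'⟩ := hZ _ t ht
      have ht'' : t'.left ≫ ι.left = Spec.map a ≫ hW.fromSpec := congrArg (fun f => f.left) ht'
      have hrange : Set.range t'.left ⊆ Set.range hN.fromSpec := by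
        rintro _ ⟨y, rfl⟩
        rw [hN.range_fromSpec]
        show ι.left (t'.left y) ∈ W
        have h1 : ι.left (t'.left y) = hW.fromSpec ((Spec.map a) y) := congr(($ht'').base y)
        rw [h1, ← SetLike.mem_coe, ← hW.range_fromSpec]
        exact ⟨_, rfl⟩
      let φr := Spec.preimage (IsOpenImmersion.lift hN.fromSpec t'.left hrange)
      have hφr : Spec.map φr ≫ hN.fromSpec = t'.left := by
        rw [Spec.map_preimage, IsOpenImmersion.lift_fac]
      have hcomp : πr ≫ φr = a := by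
        apply Spec.map_injective
        rw [← cancel_mono hW.fromSpec, Spec.map_comp, Category.assoc]
        rw [IsAffineOpen.SpecMap_appLE_fromSpec ι.left hW hN le_rfl, ← Category.assoc, hφr, ht'']
      have hφ : ∀ b, φr.hom (π b) = χ b := fun b => congr(($hcomp).hom b)
      refine ⟨{ φr.hom with commutes' := fun r => ?_ }, AlgHom.ext hφ⟩
      show φr.hom (algebraMap Γ(S, V) Γ(Z.left, N) r) = algebraMap Γ(S, V) D r
      rw [← π.commutes, hφ, χ.commutes]
  rw [RingHom.smooth_def]
  refine ⟨RingHom.formallySmooth_algebraMap.2 inferInstance, ?_⟩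
  exact Z.hom.finitePresentation_appLE hV hN eZ

end Groth.Agent.FixPtLib
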